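import Cfsg.Agent.H8.Essential
import Cfsg.Prelude.Def_Spor_Mathieu

/-! A membership test for the Golay code and for `M₂₄`. -/

set_option autoImplicit false
set_option linter.style.haveILetI false
set_option linter.unusedSectionVars false

open scoped Pointwise
open Subgroup

namespace Cfsg.H1.Golay

/-- Points as numbers below `24`. -/
def enc : GolayPt → ℕ := fun p => Option.elim p 23 ZMod.val

/-- Numbers as points. -/
def dec (n : ℕ) : GolayPt := if n = 23 then none else some (n : ZMod 23)

theorem dec_enc : ∀ p, dec (enc p) = p := by decide +kernel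

theorem enc_lt : ∀ p, enc p < 24 := by decide +kernel

theorem enc_dec : ∀ n < 24, enc (dec n) = n := by decide +kernel

theorem enc_injective : Function.Injective enc := Function.LeftInverse.injective dec_enc

/-- The word with a given bit mask. -/
def wd (n : ℕ) : GolayPt → ZMod 2 := fun p => if n.testBit (enc p) then 1 else 0

theorem wd_xor (a b : ℕ) : wd (a ^^^ b) = wd a + wd b := by
  funext p
  simp only [wd, Nat.testBit_xor, Pi.add_apply]
  cases a.testBit (enc p) <;> cases b.testBit (enc p) <;> decide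

theorem wd_zero : wd 0 = 0 := by funext p; simp [wd]

/-- The masks of the generating words. -/
def qm (t : ℕ) : ℕ :=
  [340831, 681662, 1363324, 2726648, 5453296, 2517985, 5035970, 1683333, 3366666, 6733332,
    5078057, 1767507, 3535014, 7070028, 5751449, 3114291, 6228582, 4068557, 8137114, 7885621,
    7382635, 6376663, 4364719, 16777215].getD t 0

theorem qrWord_eq (t : ZMod 23) : qrWord t = wd (qm t.val) := by
  funext p
  revert t p
  decide +kernel

theorem one_eq : (1 : GolayPt → ZMod 2) = wd (qm 23) := by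
  funext p
  revert p
  decide +kernel

theorem wd_qm_mem (t : ℕ) : wd (qm t) ∈ golayCode := by
  by_cases h : t < 23
  · have := qrWord_eq (t : ZMod 23)
    rw [ZMod.val_cast_of_lt h] at this
    rw [← this]
    exact Submodule.subset_span (Or.inl ⟨_, rfl⟩)
  by_cases h' : t = 23
  · rw [h', ← one_eq]; exact Submodule.subset_span (Or.inr rfl)
  · rw [qm, List.getD_eq_default _ _ (by simp; omega), wd_zero]; exact zero_mem _

theorem wd_foldr_mem (l : List ℕ) : wd (l.foldr (fun t n => qm t ^^^ n) 0) ∈ golayCode := by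
  induction l with
  | nil => rw [List.foldr_nil, wd_zero]; exact zero_mem _
  | cons t l ih => rw [List.foldr_cons, wd_xor]; exact add_mem (wd_qm_mem t) ih

/-- Reduction by a list of pivots and masks. -/
def red (B : List (ℕ × ℕ)) (n : ℕ) : ℕ :=
  B.foldl (fun n b => if n.testBit b.1 then n ^^^ b.2 else n) n

theorem mem_of_red {B : List (ℕ × ℕ)} (hB : ∀ b ∈ B, wd b.2 ∈ golayCode) {n : ℕ}
    (h : red B n = 0) : wd n ∈ golayCode := by
  induction B generalizing n with
  | nil => rw [show n = 0 from h, wd_zero]; exact zero_mem _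
  | cons b B ih =>
    have h1 : wd (if n.testBit b.1 then n ^^^ b.2 else n) ∈ golayCode :=
      ih (fun c hc => hB c (List.mem_cons_of_mem _ hc)) h
    split_ifs at h1 with h2
    · rw [wd_xor] at h1
      simpa using sub_mem h1 (hB b List.mem_cons_self)
    · exact h1

/-- An echelon basis of the code. -/
def basis : List (ℕ × ℕ) :=
  [(18, 340831), (19, 681662), (20, 1179171), (21, 2358342), (22, 4377555), (15, 42232), (16,
    84464), (17, 145176), (12, 5279), (13, 10558), (14, 18147), (23, 8391797)]

theorem basis_mem : ∀ b ∈ basis, wd b.2 ∈ golayCode := by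
  have : ∀ b ∈ basis, ∃ l ∈ [[0], [1], [0, 2], [1, 3], [0, 2, 4], [0, 1, 3, 5], [1, 2, 4, 6], [0, 1, 2, 7], [0, 3, 4, 6, 8],
      [1, 4, 5, 7, 9], [0, 2, 3, 4, 5, 10], [1, 2, 4, 7, 9, 10, 23]],
      b.2 = l.foldr (fun t n => qm t ^^^ n) 0 := by decide +kernel
  intro b hb
  obtain ⟨l, -, e⟩ := this b hb
  rw [e]; exact wd_foldr_mem l

/-- The permutations preserving the code. -/
def autC : Subgroup (Equiv.Perm GolayPt) :=
  H8.mkSub {σ | ∀ w ∈ golayCode, w ∘ σ ∈ golayCode} (fun _ hw => hw)
    fun _ ha _ hb w hw => hb _ (ha w hw)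

theorem smul_support (σ : Equiv.Perm GolayPt) (w : GolayPt → ZMod 2) :
    σ • support₂ w = support₂ (w ∘ (σ⁻¹ : Equiv.Perm GolayPt)) := by
  ext p
  rw [← Finset.inv_smul_mem_iff]
  simp [support₂]

theorem support_injective : Function.Injective (support₂ : (GolayPt → ZMod 2) → _) := by
  intro a b h
  funext p
  have h1 := Finset.ext_iff.1 h p
  simp only [support₂, Finset.mem_filter, Finset.mem_univ, true_and] at h1
  revert h1
  generalize a p = x
  generalize b p = y
  revert x y
  decide

theorem autC_eq : autC = M24 := by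
  ext σ
  rw [MulAction.mem_stabilizer_iff]
  constructor
  · intro h
    ext s
    rw [Set.mem_smul_set_iff_inv_smul_mem]
    constructor
    · rintro ⟨w, hw, e⟩
      refine ⟨_, autC.inv_mem h w hw, ?_⟩
      rw [← smul_support, e, smul_inv_smul]
    · rintro ⟨w, hw, rfl⟩
      exact ⟨_, h w hw, by rw [smul_support, inv_inv]⟩
  · intro h w hw
    have h1 : support₂ w ∈ σ • supports (golayCode : Set (GolayPt → ZMod 2)) := by
      rw [h]; exact ⟨w, hw, rfl⟩
    rw [Set.mem_smul_set_iff_inv_smul_mem, smul_support, inv_inv] at h1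
    obtain ⟨v, hv, e⟩ := h1
    rw [← support_injective e]; exact hv

theorem comp_mem {σ : Equiv.Perm GolayPt} (h : σ ∈ M24) {w : GolayPt → ZMod 2}
    (hw : w ∈ golayCode) : w ∘ σ ∈ golayCode := (autC_eq.ge h) w hw

/-- The mask pulled back along a table. -/
def pull (f : ℕ → ℕ) (n : ℕ) : ℕ :=
  (List.range 24).foldr (fun i a => if n.testBit (f i) then a ||| 2 ^ i else a) 0

/-- The check that a pair of tables gives an element of `M₂₄`. -/
def chkM (l l' : List ℕ) : Bool :=
  ((List.range 24).all fun i => decide (l.getD i 0 < 24) && decide (l'.getD i 0 < 24) &&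
    l'.getD (l.getD i 0) 0 == i && l.getD (l'.getD i 0) 0 == i) &&
  (List.range 23).all fun t => red basis (pull (l.getD · 0) (qm t)) == 0 &&
    (List.range 24).all fun i =>
      (qm t).testBit (l.getD i 0) == (pull (l.getD · 0) (qm t)).testBit i

theorem exists_of_chkM {l l' : List ℕ} (h : chkM l l' = true) :
    ∃ σ ∈ M24, ∀ p, enc (σ p) = l.getD (enc p) 0 := by
  simp only [chkM, Bool.and_eq_true, List.all_eq_true, List.mem_range, decide_eq_true_eq,
    beq_iff_eq] at h
  obtain ⟨h1, h2⟩ := h
  let σ : Equiv.Perm GolayPt :=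
    ⟨fun p => dec (l.getD (enc p) 0), fun p => dec (l'.getD (enc p) 0),
      fun p => by
        simp only
        rw [enc_dec _ (h1 _ (enc_lt p)).1.1.1, (h1 _ (enc_lt p)).1.2, dec_enc],
      fun p => by
        simp only
        rw [enc_dec _ (h1 _ (enc_lt p)).1.1.2, (h1 _ (enc_lt p)).2, dec_enc]⟩
  have hσ : ∀ p, enc (σ p) = l.getD (enc p) 0 := fun p => enc_dec _ (h1 _ (enc_lt p)).1.1.1
  refine ⟨σ, ?_, hσ⟩
  rw [← autC_eq]
  intro w hw
  induction hw using Submodule.span_induction with
  | mem w hw =>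
    rcases hw with ⟨t, rfl⟩ | rfl
    · have h3 := h2 t.val (ZMod.val_lt t)
      convert mem_of_red basis_mem h3.1 using 1
      funext p
      rw [qrWord_eq]
      simp only [Function.comp, wd, hσ, h3.2 _ (enc_lt p)]
    · exact Submodule.subset_span (Or.inr rfl)
  | zero => exact zero_mem _
  | add a b _ _ ha hb => exact add_mem ha hb
  | smul c a _ ha => exact Submodule.smul_mem _ c ha

/-- Apply a word in the tables `gs`, first letter first. -/
def apw (gs : List (List ℕ)) (w : List ℕ) (n : ℕ) : ℕ :=
  w.foldl (fun n i => (gs.getD i []).getD n 0) n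

theorem exists_of_word {K : Subgroup (Equiv.Perm GolayPt)} {gs : List (List ℕ)}
    (h : ∀ l ∈ gs, ∃ σ ∈ K, ∀ p, enc (σ p) = l.getD (enc p) 0) {w : List ℕ}
    (hw : ∀ i ∈ w, i < gs.length) : ∃ σ ∈ K, ∀ p, enc (σ p) = apw gs w (enc p) := by
  induction w with
  | nil => exact ⟨1, one_mem _, fun _ => rfl⟩
  | cons i w ih =>
    obtain ⟨σ, hσ, e⟩ := ih fun j hj => hw j (List.mem_cons_of_mem _ hj)
    have hi := hw i List.mem_cons_self
    obtain ⟨τ, hτ, e'⟩ := h (gs.getD i []) (by
      rw [List.getD_eq_getElem _ _ hi]; exact List.getElem_mem hi)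
    exact ⟨σ * τ, mul_mem hσ hτ, fun p => by
      rw [Equiv.Perm.mul_apply, e, e']; rfl⟩

end Cfsg.H1.Golay
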